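import Cfsg.Agent.Lib.Helper5.GA.Check
import Cfsg.Agent.Lib.Helper5.Chev.DataF4
import Mathlib

/-!
# The exceptional graph automorphism of `F₄` in characteristic 2: the tables (helper5)
-/

set_option autoImplicit false

namespace Cfsg.Agent.Lib.Helper5.GA.F4

/-- the permutation of the roots: short and long roots are exchanged -/
def rho (r : ℕ) : ℕ := [3, 7, 8, 0, 9, 11, 18, 1, 2, 4, 15, 5, 16, 21, 23, 10, 12, 19, 6, 17, 22, 13, 20, 14, 33, 27, 34, 25, 30, 41, 28, 35, 37, 24, 26, 31, 42, 32, 43, 45, 46, 29, 36, 38, 47, 39, 40, 44].getD r 0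
/-- the exponents: 2 on the short roots -/
def lam (r : ℕ) : ℕ := [1, 1, 1, 2, 1, 1, 1, 2, 2, 2, 2, 2, 2, 2, 2, 1, 1, 1, 2, 2, 2, 1, 1, 1, 1, 1, 1, 2, 2, 2, 1, 1, 1, 2, 2, 2, 2, 2, 2, 2, 2, 1, 1, 1, 2, 1, 1, 1].getD r 1

end Cfsg.Agent.Lib.Helper5.GA.F4
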