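import Cfsg.Agent.Lib.Helper5.GA.Hom
import Cfsg.Agent.Lib.Helper5.Chev.SimpleChev
import Mathlib

/-!
# The graph automorphism of a Chevalley group from the presented group (helper5)
-/

set_option autoImplicit false

namespace Cfsg.Agent.Lib.Helper5.GA

open Cfsg.Lie Cfsg.Agent.Lib.Helper5.Chev Cfsg.Agent.Lib.Helper5.Tw Cfsg.Agent.Lib.Helper5.St
open scoped Matrix

namespace GData

variable {K : Type*} [Field K] {D : ChevalleyDatum} {p : ℕ} {ρ lam : ℕ → ℕ}
  (G : GData K D p ρ lam)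

include G

theorem hom_mem (g : D.SteinbergGroup K) : G.hom g ∈ D.group K := by
  have hle : Subgroup.closure {g : D.SteinbergGroup K | ∃ r < D.nroots, ∃ t : K,
      g = (steinbergRData (K := K) G.hD).X r t} ≤ (D.group K).comap G.hom := by
    rw [Subgroup.closure_le]
    rintro x ⟨r, hr, t, rfl⟩
    show G.hom ((steinbergRData (K := K) G.hD).X r t) ∈ D.group K
    rw [steinbergRData_X, G.hom_stGen r hr]
    exact G.hadd.xU_mem_group _ _
  exact hle ((steinbergRData (K := K) G.hD).mem_closure_gen g)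

/-- the homomorphism into the Chevalley group -/
noncomputable def homG : D.SteinbergGroup K →* ↥(D.group K) :=
  G.hom.codRestrict (D.group K) G.hom_mem

theorem homG_stGen (r : ℕ) (hr : r < D.nroots) (t : K) :
    (((G.homG (D.stGen K r t) : ↥(D.group K)) : GL D.Idx K) : Matrix D.Idx D.Idx K)
      = D.x K (ρ r) (t ^ lam r) := by
  show ((G.hom (D.stGen K r t) : GL D.Idx K) : Matrix D.Idx D.Idx K) = _
  rw [G.hom_stGen r hr]
  rfl

/-- the presented group is the Chevalley group when its centre is trivial -/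
noncomputable def equivSt (hZ : Subgroup.center (D.SteinbergGroup K) = ⊥) :
    D.SteinbergGroup K ≃* ↥(D.group K) :=
  MulEquiv.ofBijective (steinbergRData (K := K) G.hD).thetaG
    ⟨by
      rw [← MonoidHom.ker_eq_bot_iff, (steinbergRData (K := K) G.hD).thetaG_ker_eq_center, hZ],
     (steinbergRData (K := K) G.hD).thetaG_surjective⟩

theorem equivSt_stGen (hZ : Subgroup.center (D.SteinbergGroup K) = ⊥) (r : ℕ) (hr : r < D.nroots)
    (t : K) :
    (((G.equivSt hZ (D.stGen K r t) : ↥(D.group K)) : GL D.Idx K) : Matrix D.Idx D.Idx K)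
      = D.x K r t := by
  have := (steinbergRData (K := K) G.hD).thetaG_X r hr t
  rw [steinbergRData_X] at this
  exact this

/-- the endomorphism of the Chevalley group -/
noncomputable def endo (hZ : Subgroup.center (D.SteinbergGroup K) = ⊥) :
    ↥(D.group K) →* ↥(D.group K) :=
  G.homG.comp (G.equivSt hZ).symm.toMonoidHom

theorem endo_x (hZ : Subgroup.center (D.SteinbergGroup K) = ⊥) (g : ↥(D.group K)) (r : ℕ)
    (hr : r < D.nroots) (t : K) (hg : ((g : GL D.Idx K) : Matrix D.Idx D.Idx K) = D.x K r t) :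
    (((G.endo hZ g : ↥(D.group K)) : GL D.Idx K) : Matrix D.Idx D.Idx K)
      = D.x K (ρ r) (t ^ lam r) := by
  have e1 : g = G.equivSt hZ (D.stGen K r t) := by
    apply Subtype.ext
    apply Units.ext
    rw [hg, G.equivSt_stGen hZ r hr]
  have e2 : (G.equivSt hZ).symm g = D.stGen K r t := by
    rw [e1, MulEquiv.symm_apply_apply]
  show (((G.homG ((G.equivSt hZ).symm g) : ↥(D.group K)) : GL D.Idx K) : Matrix D.Idx D.Idx K) = _
  rw [e2, G.homG_stGen r hr]

theorem endo_surjective (hZ : Subgroup.center (D.SteinbergGroup K) = ⊥)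
    (hperf : ∀ x : K, ∃ y : K, y ^ p = x) (hsurj : ∀ s < D.nroots, ∃ r < D.nroots, ρ r = s) :
    Function.Surjective (G.endo hZ) := by
  rintro ⟨g, hg⟩
  have hle : D.group K ≤ ((G.endo hZ).range).map (D.group K).subtype := by
    unfold ChevalleyDatum.group
    rw [Subgroup.closure_le]
    rintro x ⟨s, u, hx⟩
    obtain ⟨r, hr, hrs⟩ := hsurj s.1 s.2
    have hy : ∃ y : K, y ^ lam r = u := by
      rcases G.lam_eq r hr with h | h
      · exact ⟨u, by rw [h, pow_one]⟩
      · rw [h]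
        exact hperf u
    obtain ⟨y, hy⟩ := hy
    refine ⟨G.endo hZ ⟨G.hadd.xU r y, G.hadd.xU_mem_group r y⟩, ⟨_, rfl⟩, ?_⟩
    apply Units.ext
    show (((G.endo hZ ⟨G.hadd.xU r y, G.hadd.xU_mem_group r y⟩ : ↥(D.group K)) : GL D.Idx K)
      : Matrix D.Idx D.Idx K) = _
    rw [G.endo_x hZ _ r hr y rfl, hrs, hy, hx]
    exact x_eq_xMat s s.2 u
  obtain ⟨z, ⟨w, rfl⟩, hz⟩ := hle hg
  exact ⟨w, Subtype.ext hz⟩

theorem endo_injective (hZ : Subgroup.center (D.SteinbergGroup K) = ⊥)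
    (hperf : ∀ x : K, ∃ y : K, y ^ p = x) (hsurj : ∀ s < D.nroots, ∃ r < D.nroots, ρ r = s)
    (h2 : D = chevG2 ∨ D = chevB2 → ∃ a : K, a ≠ 0 ∧ a ≠ 1) :
    Function.Injective (G.endo hZ) := by
  obtain ⟨hsimple, -⟩ := simple_all (F := K) D G.hD h2
  rw [← MonoidHom.ker_eq_bot_iff]
  rcases hsimple.eq_bot_or_eq_top_of_normal (G.endo hZ).ker inferInstance with h | h
  · exact h
  · exfalso
    obtain ⟨a, b, hab⟩ := hsimple.toNontrivial
    obtain ⟨a', rfl⟩ := G.endo_surjective hZ hperf hsurj a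
    obtain ⟨b', rfl⟩ := G.endo_surjective hZ hperf hsurj b
    have ha : a' ∈ (G.endo hZ).ker := by rw [h]; trivial
    have hb : b' ∈ (G.endo hZ).ker := by rw [h]; trivial
    rw [MonoidHom.mem_ker] at ha hb
    exact hab (ha.trans hb.symm)

/-- the graph automorphism -/
noncomputable def aut (hZ : Subgroup.center (D.SteinbergGroup K) = ⊥)
    (hperf : ∀ x : K, ∃ y : K, y ^ p = x) (hsurj : ∀ s < D.nroots, ∃ r < D.nroots, ρ r = s)
    (h2 : D = chevG2 ∨ D = chevB2 → ∃ a : K, a ≠ 0 ∧ a ≠ 1) :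
    ↥(D.group K) ≃* ↥(D.group K) :=
  MulEquiv.ofBijective (G.endo hZ)
    ⟨G.endo_injective hZ hperf hsurj h2, G.endo_surjective hZ hperf hsurj⟩

theorem aut_x (hZ : Subgroup.center (D.SteinbergGroup K) = ⊥)
    (hperf : ∀ x : K, ∃ y : K, y ^ p = x) (hsurj : ∀ s < D.nroots, ∃ r < D.nroots, ρ r = s)
    (h2 : D = chevG2 ∨ D = chevB2 → ∃ a : K, a ≠ 0 ∧ a ≠ 1) (g : ↥(D.group K)) (r : ℕ)
    (hr : r < D.nroots) (t : K) (hg : ((g : GL D.Idx K) : Matrix D.Idx D.Idx K) = D.x K r t) :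
    (((G.aut hZ hperf hsurj h2 g : ↥(D.group K)) : GL D.Idx K) : Matrix D.Idx D.Idx K)
      = D.x K (ρ r) (t ^ lam r) :=
  G.endo_x hZ g r hr t hg

end GData

end Cfsg.Agent.Lib.Helper5.GA
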