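import Cfsg.Agent.Lib.Helper5.GA.Aut
import Cfsg.Agent.Lib.Helper5.Frob.FieldAut2
import Mathlib

/-!
# The graph automorphism is injective: its square is the Frobenius map (helper5)
-/

set_option autoImplicit false

namespace Cfsg.Agent.Lib.Helper5.GA

open Cfsg.Lie Cfsg.Agent.Lib.Helper5.Chev Cfsg.Agent.Lib.Helper5.Tw Cfsg.Agent.Lib.Helper5.St
  Cfsg.Agent.Lib.Helper5.Frob
open scoped Matrix

namespace GData

variable {K : Type*} [Field K] {D : ChevalleyDatum} {p : ℕ} {ρ lam : ℕ → ℕ}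
  (G : GData K D p ρ lam)

include G

/-- the endomorphism is injective: its square is the Frobenius map -/
theorem endo_injective' (hZ : Subgroup.center (D.SteinbergGroup K) = ⊥)
    (hinv : ∀ r < D.nroots, ρ (ρ r) = r) (hlam : ∀ r < D.nroots, lam r * lam (ρ r) = p) :
    Function.Injective (G.endo hZ) := by
  have : Fact p.Prime := ⟨G.hp⟩
  have := G.hchar
  have key : ((D.group K).subtype.comp ((G.endo hZ).comp (G.endo hZ))).comp
        (G.equivSt hZ).toMonoidHom
      = ((Matrix.GeneralLinearGroup.map (n := D.Idx) (frobenius K p)).comp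
          (D.group K).subtype).comp (G.equivSt hZ).toMonoidHom := by
    apply PresentedGroup.ext
    rintro ⟨r, t⟩
    have e0 : (PresentedGroup.of (rels := D.steinbergRels K) (r, t)) = D.stGen K r.1 t := by
      unfold ChevalleyDatum.stGen ChevalleyDatum.stX
      rw [dif_pos r.2]
      rfl
    rw [e0]
    simp only [MonoidHom.comp_apply, MulEquiv.coe_toMonoidHom, Subgroup.coe_subtype]
    have h1 := G.equivSt_stGen hZ r.1 r.2 t
    have h2 := G.endo_x hZ _ r.1 r.2 t h1
    have h3 := G.endo_x hZ _ (ρ r.1) (G.rho_lt r.1 r.2) _ h2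
    rw [hinv r.1 r.2, ← pow_mul, hlam r.1 r.2] at h3
    apply Units.ext
    rw [h3, mapGL_val, h1, x_map_hom, frobenius_def]
  intro a b hab
  have ha := DFunLike.congr_fun key ((G.equivSt hZ).symm a)
  have hb := DFunLike.congr_fun key ((G.equivSt hZ).symm b)
  simp only [MonoidHom.comp_apply, MulEquiv.coe_toMonoidHom, MulEquiv.apply_symm_apply,
    Subgroup.coe_subtype] at ha hb
  rw [hab, hb] at ha
  exact Subtype.ext (mapGL_injective (frobenius K p) ha.symm)

/-- the graph automorphism, without the hypothesis of simplicity -/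
noncomputable def aut' (hZ : Subgroup.center (D.SteinbergGroup K) = ⊥)
    (hperf : ∀ x : K, ∃ y : K, y ^ p = x) (hinv : ∀ r < D.nroots, ρ (ρ r) = r)
    (hlam : ∀ r < D.nroots, lam r * lam (ρ r) = p) :
    ↥(D.group K) ≃* ↥(D.group K) :=
  MulEquiv.ofBijective (G.endo hZ)
    ⟨G.endo_injective' hZ hinv hlam,
      G.endo_surjective hZ hperf (fun s hs => ⟨ρ s, G.rho_lt s hs, hinv s hs⟩)⟩

theorem aut'_x (hZ : Subgroup.center (D.SteinbergGroup K) = ⊥)
    (hperf : ∀ x : K, ∃ y : K, y ^ p = x) (hinv : ∀ r < D.nroots, ρ (ρ r) = r)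
    (hlam : ∀ r < D.nroots, lam r * lam (ρ r) = p) (g : ↥(D.group K)) (r : ℕ)
    (hr : r < D.nroots) (t : K) (hg : ((g : GL D.Idx K) : Matrix D.Idx D.Idx K) = D.x K r t) :
    (((G.aut' hZ hperf hinv hlam g : ↥(D.group K)) : GL D.Idx K) : Matrix D.Idx D.Idx K)
      = D.x K (ρ r) (t ^ lam r) :=
  G.endo_x hZ g r hr t hg

end GData

end Cfsg.Agent.Lib.Helper5.GA
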