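import Cfsg.Agent.Lib.Helper5.St.Main3
import Mathlib

/-!
# The presented group of type `B₂` has trivial centre in characteristic 2 (helper5)
-/

set_option autoImplicit false

namespace Cfsg.Agent.Lib.Helper5.GA

open Cfsg.Lie Cfsg.Agent.Lib.Helper5.Chev Cfsg.Agent.Lib.Helper5.Tw Cfsg.Agent.Lib.Helper5.St
open scoped Matrix

section

variable {K : Type*} [Field K] {D : ChevalleyDatum} {Γ : Type*} [Group Γ] (R : RData K D Γ)
  {T : FD} {Bs : List ℕ} {gH : ℕ} {baseH : List ℕ} {fuel : ℕ}
  (C : StCtx K D T Bs gH baseH fuel)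
  (hmul : ∀ i < D.rank, ∀ t₁ t₂ : K, t₁ ≠ 0 → t₂ ≠ 0 →
    R.hbar i t₁ * R.hbar i t₂ = R.hbar i (t₁ * t₂))

include C hmul

/-- the kernel is trivial when the weights separate the torus -/
theorem ker_eq_bot_of_triv
    (htriv : ∀ t : Fin D.rank → Kˣ,
      (∀ j : Fin D.rank, ∏ k : Fin D.rank, t k ^ (D.cartan k (D.simple j)) = 1) → t = 1) :
    R.θ.ker = ⊥ := by
  classical
  rw [eq_bot_iff]
  intro z hz
  rw [Subgroup.mem_bot]
  have hzH := R.ker_le_H0 C hz
  have hcomm : Pairwise fun i j : Fin D.rank =>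
      ∀ x y : Kˣ, Commute (R.hhom hmul i x) (R.hhom hmul j y) :=
    fun i j _ x y => R.hbar_commute C hmul i j i.2 j.2 _ _ x.ne_zero y.ne_zero
  have hrange : R.H0 ≤ (MonoidHom.noncommPiCoprod (R.hhom hmul) hcomm).range := by
    rw [MonoidHom.noncommPiCoprod_range]
    unfold RData.H0
    rw [Subgroup.closure_le]
    rintro h ⟨i, hi, t, ht, rfl⟩
    have : R.hbar i t ∈ (R.hhom hmul ⟨i, hi⟩).range := ⟨Units.mk0 t ht, rfl⟩
    exact (le_iSup (fun i => (R.hhom hmul i).range) ⟨i, hi⟩) this
  obtain ⟨t, rfl⟩ := hrange hzH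
  have key : R.θ.comp (MonoidHom.noncommPiCoprod (R.hhom hmul) hcomm)
      = (diagHom K D).comp
        (∏ k : Fin D.rank, (weightHom K D k).comp (Pi.evalMonoidHom (fun _ => Kˣ) k)) := by
    apply MonoidHom.pi_ext
    intro i x
    rw [MonoidHom.comp_apply, MonoidHom.comp_apply, MonoidHom.noncommPiCoprod_mulSingle,
      MonoidHom.finsetProd_apply]
    show R.θ (R.hbar i (x : K)) = _
    rw [R.theta_hbar i i.2 x]
    congr 1
    rw [Finset.prod_eq_single i]
    · rw [MonoidHom.comp_apply]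
      show _ = weightHom K D i ((Pi.mulSingle i x : Fin D.rank → Kˣ) i)
      rw [Pi.mulSingle_eq_same]
    · intro k _ hk
      rw [MonoidHom.comp_apply]
      show weightHom K D k ((Pi.mulSingle i x : Fin D.rank → Kˣ) k) = 1
      rw [Pi.mulSingle_eq_of_ne hk, map_one]
    · intro hi
      exact absurd (Finset.mem_univ i) hi
  have h1 : (diagHom K D) ((∏ k : Fin D.rank,
      (weightHom K D k).comp (Pi.evalMonoidHom (fun _ => Kˣ) k)) t) = 1 := by
    have := DFunLike.congr_fun key t
    rw [MonoidHom.comp_apply, MonoidHom.comp_apply] at this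
    rw [← this]
    exact MonoidHom.mem_ker.1 hz
  have h2 : (∏ k : Fin D.rank,
      (weightHom K D k).comp (Pi.evalMonoidHom (fun _ => Kˣ) k)) t = 1 :=
    diagHom_injective (h1.trans (map_one _).symm)
  rw [MonoidHom.finsetProd_apply] at h2
  have h3 : ∀ j : Fin D.rank, ∏ k : Fin D.rank, t k ^ (D.cartan k (D.simple j)) = 1 := by
    intro j
    obtain ⟨hp, -⟩ := simple_lt_all D R.hD j j.2
    have := congrFun h2 (Sum.inr ⟨D.simple j, hp⟩)
    rw [Finset.prod_apply] at this
    exact this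
  rw [htriv t h3, map_one]

end

/-- the presented group of type `B₂` has trivial centre in characteristic 2 -/
theorem b2_center_eq_bot (K : Type*) [Field K] [CharP K 2] :
    Subgroup.center (chevB2.SteinbergGroup K) = ⊥ := by
  have hD' : chevB2 ∈ [chevG2, chevB2, chevD4, chevF4, chevE6, chevE7, chevE8] := by simp
  obtain ⟨T, Bs, gH, baseH, fuel, C⟩ := stCtx_known K chevB2 hD'
  have aux : ∀ t : Fin 2 → Kˣ,
      (∀ j : Fin 2, ∏ k : Fin 2, t k ^ (chevB2.cartan k (chevB2.simple j)) = 1) → t = 1 := by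
    intro t ht
    have e0 := ht 0
    have e1 := ht 1
    rw [Fin.prod_univ_two] at e0 e1
    have c00 : chevB2.cartan 0 (chevB2.simple 0) = 2 := by decide
    have c10 : chevB2.cartan 1 (chevB2.simple 0) = -1 := by decide
    have c01 : chevB2.cartan 0 (chevB2.simple 1) = -2 := by decide
    have c11 : chevB2.cartan 1 (chevB2.simple 1) = 2 := by decide
    simp only [Fin.val_zero, Fin.val_one] at e0 e1
    rw [c00, c10] at e0
    rw [c01, c11] at e1
    have k1 : t 1 = t 0 ^ (2 : ℤ) := by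
      rw [zpow_neg, zpow_one, mul_inv_eq_one] at e0
      exact e0.symm
    have k2 : t 0 ^ (2 : ℤ) = 1 := by
      rw [k1, ← zpow_mul, ← zpow_add] at e1
      norm_num at e1
      exact e1
    have k3 : t 0 = 1 := by
      have h4 : ((t 0 : Kˣ) : K) ^ 2 = 1 := by
        have := congrArg Units.val k2
        rw [Units.val_zpow_eq_zpow_val, Units.val_one] at this
        exact_mod_cast this
      have h5 : (((t 0 : Kˣ) : K) - 1) ^ 2 = 0 := by
        have h2 : (2 : K) = 0 := by
          have := CharP.cast_eq_zero K 2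
          exact_mod_cast this
        linear_combination h4 + (1 - ((t 0 : Kˣ) : K)) * h2
      have h6 : ((t 0 : Kˣ) : K) - 1 = 0 := pow_eq_zero_iff (two_ne_zero) |>.1 h5
      apply Units.ext
      rw [Units.val_one]
      exact sub_eq_zero.1 h6
    funext i
    fin_cases i
    · exact k3
    · show t 1 = 1
      rw [k1, k2]
  have h1 := ker_eq_bot_of_triv (steinbergRData (K := K) hD') C
    (fun i hi t₁ t₂ h1 h2 => steinberg_hbar_mul hD' i hi t₁ t₂ h1 h2) aux
  rw [← (steinbergRData (K := K) hD').thetaG_ker_eq_center,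
    (steinbergRData (K := K) hD').thetaG_ker, h1]

end Cfsg.Agent.Lib.Helper5.GA
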