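import Cfsg.Agent.Lib.Helper5.GA.Aut2
import Cfsg.Agent.Lib.Helper5.GA.Center
import Cfsg.Agent.Lib.Helper5.Chev.DataB2
import Mathlib

/-!
# The exceptional graph automorphism of `B₂` in characteristic 2 (helper5)
-/

set_option autoImplicit false
set_option maxRecDepth 100000

namespace Cfsg.Agent.Lib.Helper5.GA.B2

open Cfsg.Lie Cfsg.Agent.Lib.Helper5.Chev Cfsg.Agent.Lib.Helper5.Tw Cfsg.Agent.Lib.Helper5.St
  Cfsg.Agent.Lib.Helper5.GA

/-- the permutation of the roots: short and long roots are exchanged -/
def rho (r : ℕ) : ℕ := [1, 0, 3, 2, 5, 4, 7, 6].getD r 0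
/-- the exponents: 2 on the short roots -/
def lam (r : ℕ) : ℕ := [1, 2, 2, 1, 1, 2, 2, 1].getD r 1

theorem gr0 : graphRowb 2 DataB2.fd rho lam 0 = true := by decide +kernel
theorem gr1 : graphRowb 2 DataB2.fd rho lam 1 = true := by decide +kernel
theorem gr2 : graphRowb 2 DataB2.fd rho lam 2 = true := by decide +kernel
theorem gr3 : graphRowb 2 DataB2.fd rho lam 3 = true := by decide +kernel
theorem gr4 : graphRowb 2 DataB2.fd rho lam 4 = true := by decide +kernel
theorem gr5 : graphRowb 2 DataB2.fd rho lam 5 = true := by decide +kernel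
theorem gr6 : graphRowb 2 DataB2.fd rho lam 6 = true := by decide +kernel
theorem gr7 : graphRowb 2 DataB2.fd rho lam 7 = true := by decide +kernel

theorem rho_lt : ∀ r < chevB2.nroots, rho r < chevB2.nroots := by decide
theorem rho_neg : ∀ r < chevB2.nroots, rho (chevB2.neg r) = chevB2.neg (rho r) := by decide
theorem lam_eq : ∀ r < chevB2.nroots, lam r = 1 ∨ lam r = 2 := by decide
theorem lam_neg : ∀ r < chevB2.nroots, lam (chevB2.neg r) = lam r := by decide
theorem rho_rho : ∀ r < chevB2.nroots, rho (rho r) = r := by decide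
theorem lam_mul : ∀ r < chevB2.nroots, lam r * lam (rho r) = 2 := by decide

/-- the data of the graph automorphism -/
theorem gdata (K : Type*) [Field K] [CharP K 2] : GData K chevB2 2 rho lam where
  hD := by simp
  hp := by norm_num
  hchar := inferInstance
  rho_lt := rho_lt
  rho_neg := rho_neg
  lam_eq := lam_eq
  lam_neg := lam_neg
  rel := by
    intro r hr
    have hr' : r < 8 := hr
    interval_cases r
    · exact graph_row_of_check 2 DataB2.agrees rho lam rho_lt 0 (by decide) gr0
    · exact graph_row_of_check 2 DataB2.agrees rho lam rho_lt 1 (by decide) gr1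
    · exact graph_row_of_check 2 DataB2.agrees rho lam rho_lt 2 (by decide) gr2
    · exact graph_row_of_check 2 DataB2.agrees rho lam rho_lt 3 (by decide) gr3
    · exact graph_row_of_check 2 DataB2.agrees rho lam rho_lt 4 (by decide) gr4
    · exact graph_row_of_check 2 DataB2.agrees rho lam rho_lt 5 (by decide) gr5
    · exact graph_row_of_check 2 DataB2.agrees rho lam rho_lt 6 (by decide) gr6
    · exact graph_row_of_check 2 DataB2.agrees rho lam rho_lt 7 (by decide) gr7

/-- the exceptional graph automorphism of `B₂` over a perfect field of characteristic 2 -/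
theorem exists_aut (K : Type*) [Field K] [CharP K 2] (hperf : ∀ x : K, ∃ y : K, y ^ 2 = x) :
    ∃ α : ↥(chevB2.group K) ≃* ↥(chevB2.group K), ∀ (g : ↥(chevB2.group K)) (r : ℕ) (t : K),
      r < chevB2.nroots → ((g : GL chevB2.Idx K) : Matrix chevB2.Idx chevB2.Idx K) = chevB2.x K r t →
        ((α g : GL chevB2.Idx K) : Matrix chevB2.Idx chevB2.Idx K)
          = chevB2.x K (rho r) (t ^ lam r) := by
  have hZ : Subgroup.center (chevB2.SteinbergGroup K) = ⊥ := b2_center_eq_bot K
  exact ⟨(gdata K).aut' hZ hperf rho_rho lam_mul,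
    fun g r t hr hg => (gdata K).aut'_x hZ hperf rho_rho lam_mul g r hr t hg⟩

end Cfsg.Agent.Lib.Helper5.GA.B2
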