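import Cfsg.Agent.Lib.Helper5.GA.ModP
import Cfsg.Agent.Lib.Helper5.Chev.Comm
import Mathlib

/-!
# The check of the relators (R2) under a graph automorphism in characteristic `p` (helper5)
-/

set_option autoImplicit false

namespace Cfsg.Agent.Lib.Helper5.GA

open Cfsg.Lie Cfsg.Agent.Lib.Helper5.Chev
open scoped Matrix

/-- the coefficient of the image of a term of the commutator formula -/
def gcoef (lam : ℕ → ℕ) (c : ℕ × ℤ × ℕ × ℕ) : ℤ :=
  zpow' (Int.mul c.2.1 (zpow' (Int.negSucc 0) c.2.2.1)) (lam c.1)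

/-- the sparse matrices of the images of the terms of the commutator formula -/
def graphSPMs (T : FD) (ρ lam : ℕ → ℕ) (L : List (ℕ × ℤ × ℕ × ℕ)) : List SPM :=
  L.map fun c => T.xP (ρ c.1) (gcoef lam c) (Nat.mul c.2.2.1 (lam c.1)) (Nat.mul c.2.2.2 (lam c.1)) 0

/-- the check of the image of the relator (R2) of the pair `(r, s)` under
`x_r(t) ↦ x_{ρ r}(t ^ lam r)` in characteristic `p` -/
def graphb (p : ℕ) (T : FD) (ρ lam : ℕ → ℕ) (r s : ℕ) : Bool :=
  forceNat T.rank fun l => forceNat T.nroots fun n =>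
    wordEqbNP p (Nat.add l n)
      [T.xP (ρ s) 1 0 (lam s) 0, T.xP (ρ r) 1 (lam r) 0 0]
      (T.xP (ρ r) 1 (lam r) 0 0 :: T.xP (ρ s) 1 0 (lam s) 0 :: graphSPMs T ρ lam (T.commTerms r s))

/-- the check of a row -/
def graphRowb (p : ℕ) (T : FD) (ρ lam : ℕ → ℕ) (r : ℕ) : Bool :=
  forceNat T.nroots fun n => allBelow n fun s =>
    Nat.beq s r || Nat.beq s (T.neg r) || graphb p T ρ lam r s

section

variable {F : Type*} [Field F] {T : FD} {D : ChevalleyDatum}

/-- the image of a word under the graph automorphism -/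
def gword (ρ lam : ℕ → ℕ) (w : List (ℕ × F)) : List (ℕ × F) :=
  w.map fun q => (ρ q.1, q.2 ^ lam q.1)

theorem eval_graphSPMs (hA : T.Agrees D) (ρ lam : ℕ → ℕ) (hρ : ∀ r < D.nroots, ρ r < D.nroots)
    (L : List (ℕ × ℤ × ℕ × ℕ)) (hL : ∀ c ∈ L, c.1 < D.nroots) (t u : F) :
    ((graphSPMs T ρ lam L).map fun C => SPM.eval D C t u (1 : F)).prod
      = D.wordMat F (gword ρ lam
          (L.map fun c => (c.1, (c.2.1 : F) * (-t) ^ c.2.2.1 * u ^ c.2.2.2))) := by
  induction L with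
  | nil => rfl
  | cons c L ih =>
    have h1 := ih (fun c' hc' => hL c' (List.mem_cons_of_mem _ hc'))
    unfold graphSPMs gword ChevalleyDatum.wordMat at h1 ⊢
    rw [List.map_cons, List.map_cons, List.prod_cons, h1, List.map_cons, List.map_cons,
      List.map_cons, List.prod_cons]
    congr 1
    rw [FD.eval_xP (F := F) hA (ρ c.1) (hρ _ (hL c List.mem_cons_self))]
    congr 1
    unfold gcoef
    rw [zpow'_eq, zpow'_eq]
    have e1 : Int.mul c.2.1 (Int.negSucc 0 ^ c.2.2.1) = c.2.1 * (-1) ^ c.2.2.1 := rfl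
    rw [e1]
    push_cast
    rw [neg_pow t, one_pow, mul_one]
    show _ = ((c.2.1 : F) * ((-1) ^ c.2.2.1 * t ^ c.2.2.1) * u ^ c.2.2.2) ^ lam c.1
    rw [mul_pow, mul_pow, mul_pow, mul_pow, ← pow_mul, ← pow_mul, ← pow_mul]
    have e2 : Nat.mul c.2.2.1 (lam c.1) = c.2.2.1 * lam c.1 := rfl
    have e3 : Nat.mul c.2.2.2 (lam c.1) = c.2.2.2 * lam c.1 := rfl
    rw [e2, e3]
    ring

theorem wf_graphSPMs (hA : T.Agrees D) (ρ lam : ℕ → ℕ) (hρ : ∀ r < D.nroots, ρ r < D.nroots)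
    (L : List (ℕ × ℤ × ℕ × ℕ)) (hL : ∀ c ∈ L, c.1 < D.nroots) :
    ∀ C ∈ graphSPMs T ρ lam L, SPM.WF (D.rank + D.nroots) C := by
  intro C hC
  unfold graphSPMs at hC
  rw [List.mem_map] at hC
  obtain ⟨c, hc, rfl⟩ := hC
  exact FD.wf_xP hA _ (hρ _ (hL c hc)) _ _ _ _

/-- the image of the relator (R2) from the check -/
theorem graph_of_check (p : ℕ) [CharP F p] (hA : T.Agrees D) (ρ lam : ℕ → ℕ)
    (hρ : ∀ r < D.nroots, ρ r < D.nroots) (r s : ℕ) (hr : r < D.nroots) (hs : s < D.nroots)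
    (h : graphb p T ρ lam r s = true) (t u : F) :
    D.x F (ρ s) (u ^ lam s) * D.x F (ρ r) (t ^ lam r)
      = D.x F (ρ r) (t ^ lam r) * D.x F (ρ s) (u ^ lam s) *
        D.wordMat F (gword ρ lam (D.commWord F r s t u)) := by
  unfold graphb at h
  rw [forceNat_eq, forceNat_eq] at h
  have hN : Nat.add T.rank T.nroots = D.rank + D.nroots := by rw [hA.rank_eq, hA.nroots_eq]; rfl
  rw [hN] at h
  have hlt := FD.commTerms_lt hA r s hr hs
  have e := wordEqbNP_sound p D t u (1 : F)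
    [T.xP (ρ s) 1 0 (lam s) 0, T.xP (ρ r) 1 (lam r) 0 0]
    (T.xP (ρ r) 1 (lam r) 0 0 :: T.xP (ρ s) 1 0 (lam s) 0 :: graphSPMs T ρ lam (T.commTerms r s))
    (by
      intro C hC
      simp only [List.mem_cons, List.not_mem_nil, or_false] at hC
      rcases hC with rfl | rfl
      · exact FD.wf_xP hA _ (hρ s hs) _ _ _ _
      · exact FD.wf_xP hA _ (hρ r hr) _ _ _ _)
    (by
      intro C hC
      rw [List.mem_cons, List.mem_cons] at hC
      rcases hC with rfl | rfl | hC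
      · exact FD.wf_xP hA _ (hρ r hr) _ _ _ _
      · exact FD.wf_xP hA _ (hρ s hs) _ _ _ _
      · exact wf_graphSPMs hA ρ lam hρ _ hlt C hC)
    h
  simp only [List.map_cons, List.map_nil, List.prod_cons, List.prod_nil, mul_one] at e
  rw [FD.eval_xP (F := F) hA (ρ s) (hρ s hs), FD.eval_xP (F := F) hA (ρ r) (hρ r hr),
    eval_graphSPMs hA ρ lam hρ _ hlt] at e
  simp only [Int.cast_one, one_mul, pow_zero, mul_one] at e
  rw [e, Matrix.mul_assoc]
  congr 2
  unfold ChevalleyDatum.commWord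
  rw [FD.commTerms_eq hA r s hr hs]

/-- the images of the relators (R2) of a row from the check -/
theorem graph_row_of_check (p : ℕ) [CharP F p] (hA : T.Agrees D) (ρ lam : ℕ → ℕ)
    (hρ : ∀ r < D.nroots, ρ r < D.nroots) (r : ℕ) (hr : r < D.nroots)
    (h : graphRowb p T ρ lam r = true) (s : ℕ) (hs : s < D.nroots) (h1 : s ≠ r)
    (h2 : s ≠ D.neg r) (t u : F) :
    D.x F (ρ s) (u ^ lam s) * D.x F (ρ r) (t ^ lam r)
      = D.x F (ρ r) (t ^ lam r) * D.x F (ρ s) (u ^ lam s) *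
        D.wordMat F (gword ρ lam (D.commWord F r s t u)) := by
  unfold graphRowb at h
  rw [forceNat_eq, hA.nroots_eq] at h
  have := allBelow_spec _ _ h s hs
  rw [Bool.or_eq_true, Bool.or_eq_true, FD.nbeq, FD.nbeq] at this
  rcases this with (h3 | h3) | h3
  · exact absurd h3 h1
  · rw [← FD.neg_eq' hA r hr] at h3
    exact absurd h3 h2
  · exact graph_of_check p hA ρ lam hρ r s hr hs h3 t u

end

end Cfsg.Agent.Lib.Helper5.GA
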