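import Cfsg.Agent.Lib.Helper5.GA.F4Defs
import Mathlib

/-!
# The exceptional graph automorphism of `F₄` in characteristic 2: checks, part a (helper5)
-/

set_option autoImplicit false
set_option maxRecDepth 100000

namespace Cfsg.Agent.Lib.Helper5.GA.F4

open Cfsg.Lie Cfsg.Agent.Lib.Helper5.Chev Cfsg.Agent.Lib.Helper5.GA

theorem gr0 : graphRowb 2 DataF4.fd rho lam 0 = true := by decide +kernel
theorem gr1 : graphRowb 2 DataF4.fd rho lam 1 = true := by decide +kernel
theorem gr2 : graphRowb 2 DataF4.fd rho lam 2 = true := by decide +kernel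
theorem gr3 : graphRowb 2 DataF4.fd rho lam 3 = true := by decide +kernel
theorem gr4 : graphRowb 2 DataF4.fd rho lam 4 = true := by decide +kernel
theorem gr5 : graphRowb 2 DataF4.fd rho lam 5 = true := by decide +kernel
theorem gr6 : graphRowb 2 DataF4.fd rho lam 6 = true := by decide +kernel
theorem gr7 : graphRowb 2 DataF4.fd rho lam 7 = true := by decide +kernel
theorem gr8 : graphRowb 2 DataF4.fd rho lam 8 = true := by decide +kernel
theorem gr9 : graphRowb 2 DataF4.fd rho lam 9 = true := by decide +kernel
theorem gr10 : graphRowb 2 DataF4.fd rho lam 10 = true := by decide +kernel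
theorem gr11 : graphRowb 2 DataF4.fd rho lam 11 = true := by decide +kernel

end Cfsg.Agent.Lib.Helper5.GA.F4
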