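import Cfsg.Agent.Lib.Helper5.GA.F4Defs
import Mathlib

/-!
# The exceptional graph automorphism of `F₄` in characteristic 2: checks, part b (helper5)
-/

set_option autoImplicit false
set_option maxRecDepth 100000

namespace Cfsg.Agent.Lib.Helper5.GA.F4

open Cfsg.Lie Cfsg.Agent.Lib.Helper5.Chev Cfsg.Agent.Lib.Helper5.GA

theorem gr12 : graphRowb 2 DataF4.fd rho lam 12 = true := by decide +kernel
theorem gr13 : graphRowb 2 DataF4.fd rho lam 13 = true := by decide +kernel
theorem gr14 : graphRowb 2 DataF4.fd rho lam 14 = true := by decide +kernel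
theorem gr15 : graphRowb 2 DataF4.fd rho lam 15 = true := by decide +kernel
theorem gr16 : graphRowb 2 DataF4.fd rho lam 16 = true := by decide +kernel
theorem gr17 : graphRowb 2 DataF4.fd rho lam 17 = true := by decide +kernel
theorem gr18 : graphRowb 2 DataF4.fd rho lam 18 = true := by decide +kernel
theorem gr19 : graphRowb 2 DataF4.fd rho lam 19 = true := by decide +kernel
theorem gr20 : graphRowb 2 DataF4.fd rho lam 20 = true := by decide +kernel
theorem gr21 : graphRowb 2 DataF4.fd rho lam 21 = true := by decide +kernel
theorem gr22 : graphRowb 2 DataF4.fd rho lam 22 = true := by decide +kernel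
theorem gr23 : graphRowb 2 DataF4.fd rho lam 23 = true := by decide +kernel

end Cfsg.Agent.Lib.Helper5.GA.F4
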