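import Cfsg.Agent.Lib.Helper5.GA.F4Defs
import Mathlib

/-!
# The exceptional graph automorphism of `F₄` in characteristic 2: checks, part c (helper5)
-/

set_option autoImplicit false
set_option maxRecDepth 100000

namespace Cfsg.Agent.Lib.Helper5.GA.F4

open Cfsg.Lie Cfsg.Agent.Lib.Helper5.Chev Cfsg.Agent.Lib.Helper5.GA

theorem gr24 : graphRowb 2 DataF4.fd rho lam 24 = true := by decide +kernel
theorem gr25 : graphRowb 2 DataF4.fd rho lam 25 = true := by decide +kernel
theorem gr26 : graphRowb 2 DataF4.fd rho lam 26 = true := by decide +kernel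
theorem gr27 : graphRowb 2 DataF4.fd rho lam 27 = true := by decide +kernel
theorem gr28 : graphRowb 2 DataF4.fd rho lam 28 = true := by decide +kernel
theorem gr29 : graphRowb 2 DataF4.fd rho lam 29 = true := by decide +kernel
theorem gr30 : graphRowb 2 DataF4.fd rho lam 30 = true := by decide +kernel
theorem gr31 : graphRowb 2 DataF4.fd rho lam 31 = true := by decide +kernel
theorem gr32 : graphRowb 2 DataF4.fd rho lam 32 = true := by decide +kernel
theorem gr33 : graphRowb 2 DataF4.fd rho lam 33 = true := by decide +kernel
theorem gr34 : graphRowb 2 DataF4.fd rho lam 34 = true := by decide +kernel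
theorem gr35 : graphRowb 2 DataF4.fd rho lam 35 = true := by decide +kernel

end Cfsg.Agent.Lib.Helper5.GA.F4
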