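import Cfsg.Agent.Lib.Helper5.GA.F4Defs
import Mathlib

/-!
# The exceptional graph automorphism of `F₄` in characteristic 2: checks, part d (helper5)
-/

set_option autoImplicit false
set_option maxRecDepth 100000

namespace Cfsg.Agent.Lib.Helper5.GA.F4

open Cfsg.Lie Cfsg.Agent.Lib.Helper5.Chev Cfsg.Agent.Lib.Helper5.GA

theorem gr36 : graphRowb 2 DataF4.fd rho lam 36 = true := by decide +kernel
theorem gr37 : graphRowb 2 DataF4.fd rho lam 37 = true := by decide +kernel
theorem gr38 : graphRowb 2 DataF4.fd rho lam 38 = true := by decide +kernel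
theorem gr39 : graphRowb 2 DataF4.fd rho lam 39 = true := by decide +kernel
theorem gr40 : graphRowb 2 DataF4.fd rho lam 40 = true := by decide +kernel
theorem gr41 : graphRowb 2 DataF4.fd rho lam 41 = true := by decide +kernel
theorem gr42 : graphRowb 2 DataF4.fd rho lam 42 = true := by decide +kernel
theorem gr43 : graphRowb 2 DataF4.fd rho lam 43 = true := by decide +kernel
theorem gr44 : graphRowb 2 DataF4.fd rho lam 44 = true := by decide +kernel
theorem gr45 : graphRowb 2 DataF4.fd rho lam 45 = true := by decide +kernel
theorem gr46 : graphRowb 2 DataF4.fd rho lam 46 = true := by decide +kernel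
theorem gr47 : graphRowb 2 DataF4.fd rho lam 47 = true := by decide +kernel

end Cfsg.Agent.Lib.Helper5.GA.F4
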