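import Cfsg.Agent.Lib.Helper5.GA.Aut2
import Cfsg.Agent.Lib.Helper5.GA.F4a
import Cfsg.Agent.Lib.Helper5.GA.F4b
import Cfsg.Agent.Lib.Helper5.GA.F4c
import Cfsg.Agent.Lib.Helper5.GA.F4d
import Mathlib

/-!
# The exceptional graph automorphism of `F₄` in characteristic 2 (helper5)
-/

set_option autoImplicit false
set_option maxRecDepth 100000

namespace Cfsg.Agent.Lib.Helper5.GA.F4

open Cfsg.Lie Cfsg.Agent.Lib.Helper5.Chev Cfsg.Agent.Lib.Helper5.Tw Cfsg.Agent.Lib.Helper5.St
  Cfsg.Agent.Lib.Helper5.GA

theorem rho_lt : ∀ r < chevF4.nroots, rho r < chevF4.nroots := by decide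
theorem rho_neg : ∀ r < chevF4.nroots, rho (chevF4.neg r) = chevF4.neg (rho r) := by decide
theorem lam_eq : ∀ r < chevF4.nroots, lam r = 1 ∨ lam r = 2 := by decide
theorem lam_neg : ∀ r < chevF4.nroots, lam (chevF4.neg r) = lam r := by decide
theorem rho_rho : ∀ r < chevF4.nroots, rho (rho r) = r := by decide
theorem lam_mul : ∀ r < chevF4.nroots, lam r * lam (rho r) = 2 := by decide

/-- the data of the graph automorphism -/
theorem gdata (K : Type*) [Field K] [CharP K 2] : GData K chevF4 2 rho lam where
  hD := by simp
  hp := by norm_num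
  hchar := inferInstance
  rho_lt := rho_lt
  rho_neg := rho_neg
  lam_eq := lam_eq
  lam_neg := lam_neg
  rel := by
    intro r hr
    have hr' : r < 48 := hr
    interval_cases r
    · exact graph_row_of_check 2 DataF4.agrees rho lam rho_lt 0 (by decide) gr0
    · exact graph_row_of_check 2 DataF4.agrees rho lam rho_lt 1 (by decide) gr1
    · exact graph_row_of_check 2 DataF4.agrees rho lam rho_lt 2 (by decide) gr2
    · exact graph_row_of_check 2 DataF4.agrees rho lam rho_lt 3 (by decide) gr3
    · exact graph_row_of_check 2 DataF4.agrees rho lam rho_lt 4 (by decide) gr4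
    · exact graph_row_of_check 2 DataF4.agrees rho lam rho_lt 5 (by decide) gr5
    · exact graph_row_of_check 2 DataF4.agrees rho lam rho_lt 6 (by decide) gr6
    · exact graph_row_of_check 2 DataF4.agrees rho lam rho_lt 7 (by decide) gr7
    · exact graph_row_of_check 2 DataF4.agrees rho lam rho_lt 8 (by decide) gr8
    · exact graph_row_of_check 2 DataF4.agrees rho lam rho_lt 9 (by decide) gr9
    · exact graph_row_of_check 2 DataF4.agrees rho lam rho_lt 10 (by decide) gr10
    · exact graph_row_of_check 2 DataF4.agrees rho lam rho_lt 11 (by decide) gr11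
    · exact graph_row_of_check 2 DataF4.agrees rho lam rho_lt 12 (by decide) gr12
    · exact graph_row_of_check 2 DataF4.agrees rho lam rho_lt 13 (by decide) gr13
    · exact graph_row_of_check 2 DataF4.agrees rho lam rho_lt 14 (by decide) gr14
    · exact graph_row_of_check 2 DataF4.agrees rho lam rho_lt 15 (by decide) gr15
    · exact graph_row_of_check 2 DataF4.agrees rho lam rho_lt 16 (by decide) gr16
    · exact graph_row_of_check 2 DataF4.agrees rho lam rho_lt 17 (by decide) gr17
    · exact graph_row_of_check 2 DataF4.agrees rho lam rho_lt 18 (by decide) gr18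
    · exact graph_row_of_check 2 DataF4.agrees rho lam rho_lt 19 (by decide) gr19
    · exact graph_row_of_check 2 DataF4.agrees rho lam rho_lt 20 (by decide) gr20
    · exact graph_row_of_check 2 DataF4.agrees rho lam rho_lt 21 (by decide) gr21
    · exact graph_row_of_check 2 DataF4.agrees rho lam rho_lt 22 (by decide) gr22
    · exact graph_row_of_check 2 DataF4.agrees rho lam rho_lt 23 (by decide) gr23
    · exact graph_row_of_check 2 DataF4.agrees rho lam rho_lt 24 (by decide) gr24
    · exact graph_row_of_check 2 DataF4.agrees rho lam rho_lt 25 (by decide) gr25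
    · exact graph_row_of_check 2 DataF4.agrees rho lam rho_lt 26 (by decide) gr26
    · exact graph_row_of_check 2 DataF4.agrees rho lam rho_lt 27 (by decide) gr27
    · exact graph_row_of_check 2 DataF4.agrees rho lam rho_lt 28 (by decide) gr28
    · exact graph_row_of_check 2 DataF4.agrees rho lam rho_lt 29 (by decide) gr29
    · exact graph_row_of_check 2 DataF4.agrees rho lam rho_lt 30 (by decide) gr30
    · exact graph_row_of_check 2 DataF4.agrees rho lam rho_lt 31 (by decide) gr31
    · exact graph_row_of_check 2 DataF4.agrees rho lam rho_lt 32 (by decide) gr32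
    · exact graph_row_of_check 2 DataF4.agrees rho lam rho_lt 33 (by decide) gr33
    · exact graph_row_of_check 2 DataF4.agrees rho lam rho_lt 34 (by decide) gr34
    · exact graph_row_of_check 2 DataF4.agrees rho lam rho_lt 35 (by decide) gr35
    · exact graph_row_of_check 2 DataF4.agrees rho lam rho_lt 36 (by decide) gr36
    · exact graph_row_of_check 2 DataF4.agrees rho lam rho_lt 37 (by decide) gr37
    · exact graph_row_of_check 2 DataF4.agrees rho lam rho_lt 38 (by decide) gr38
    · exact graph_row_of_check 2 DataF4.agrees rho lam rho_lt 39 (by decide) gr39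
    · exact graph_row_of_check 2 DataF4.agrees rho lam rho_lt 40 (by decide) gr40
    · exact graph_row_of_check 2 DataF4.agrees rho lam rho_lt 41 (by decide) gr41
    · exact graph_row_of_check 2 DataF4.agrees rho lam rho_lt 42 (by decide) gr42
    · exact graph_row_of_check 2 DataF4.agrees rho lam rho_lt 43 (by decide) gr43
    · exact graph_row_of_check 2 DataF4.agrees rho lam rho_lt 44 (by decide) gr44
    · exact graph_row_of_check 2 DataF4.agrees rho lam rho_lt 45 (by decide) gr45
    · exact graph_row_of_check 2 DataF4.agrees rho lam rho_lt 46 (by decide) gr46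
    · exact graph_row_of_check 2 DataF4.agrees rho lam rho_lt 47 (by decide) gr47

/-- the exceptional graph automorphism of `F₄` over a perfect field of characteristic 2 -/
theorem exists_aut (K : Type*) [Field K] [CharP K 2] (hperf : ∀ x : K, ∃ y : K, y ^ 2 = x) :
    ∃ α : ↥(chevF4.group K) ≃* ↥(chevF4.group K), ∀ (g : ↥(chevF4.group K)) (r : ℕ) (t : K),
      r < chevF4.nroots → ((g : GL chevF4.Idx K) : Matrix chevF4.Idx chevF4.Idx K) = chevF4.x K r t →
        ((α g : GL chevF4.Idx K) : Matrix chevF4.Idx chevF4.Idx K)
          = chevF4.x K (rho r) (t ^ lam r) := by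
  have hZ : Subgroup.center (chevF4.SteinbergGroup K) = ⊥ :=
    steinberg_center_eq_bot (K := K) (D := chevF4) (by simp)
  exact ⟨(gdata K).aut' hZ hperf rho_rho lam_mul,
    fun g r t hr hg => (gdata K).aut'_x hZ hperf rho_rho lam_mul g r hr t hg⟩

end Cfsg.Agent.Lib.Helper5.GA.F4
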