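import Cfsg.Agent.Lib.Helper5.GA.Aut
import Cfsg.Agent.Lib.Helper5.Chev.DataG2
import Mathlib

/-!
# The exceptional graph automorphism of `G₂` in characteristic 3 (helper5)
-/

set_option autoImplicit false
set_option maxRecDepth 100000

namespace Cfsg.Agent.Lib.Helper5.GA.G2

open Cfsg.Lie Cfsg.Agent.Lib.Helper5.Chev Cfsg.Agent.Lib.Helper5.Tw Cfsg.Agent.Lib.Helper5.St
  Cfsg.Agent.Lib.Helper5.GA

/-- the permutation of the roots: short and long roots are exchanged -/
def rho (r : ℕ) : ℕ := [2, 3, 0, 1, 5, 4, 7, 6, 10, 11, 8, 9].getD r 0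
/-- the exponents: 3 on the short roots -/
def lam (r : ℕ) : ℕ := [1, 1, 3, 3, 3, 1, 1, 3, 3, 3, 1, 1].getD r 1

theorem gr0 : graphRowb 3 DataG2.fd rho lam 0 = true := by decide +kernel
theorem gr1 : graphRowb 3 DataG2.fd rho lam 1 = true := by decide +kernel
theorem gr2 : graphRowb 3 DataG2.fd rho lam 2 = true := by decide +kernel
theorem gr3 : graphRowb 3 DataG2.fd rho lam 3 = true := by decide +kernel
theorem gr4 : graphRowb 3 DataG2.fd rho lam 4 = true := by decide +kernel
theorem gr5 : graphRowb 3 DataG2.fd rho lam 5 = true := by decide +kernel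
theorem gr6 : graphRowb 3 DataG2.fd rho lam 6 = true := by decide +kernel
theorem gr7 : graphRowb 3 DataG2.fd rho lam 7 = true := by decide +kernel
theorem gr8 : graphRowb 3 DataG2.fd rho lam 8 = true := by decide +kernel
theorem gr9 : graphRowb 3 DataG2.fd rho lam 9 = true := by decide +kernel
theorem gr10 : graphRowb 3 DataG2.fd rho lam 10 = true := by decide +kernel
theorem gr11 : graphRowb 3 DataG2.fd rho lam 11 = true := by decide +kernel

theorem rho_lt : ∀ r < chevG2.nroots, rho r < chevG2.nroots := by decide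
theorem rho_neg : ∀ r < chevG2.nroots, rho (chevG2.neg r) = chevG2.neg (rho r) := by decide
theorem lam_eq : ∀ r < chevG2.nroots, lam r = 1 ∨ lam r = 3 := by decide
theorem lam_neg : ∀ r < chevG2.nroots, lam (chevG2.neg r) = lam r := by decide
theorem rho_surj : ∀ s < chevG2.nroots, ∃ r < chevG2.nroots, rho r = s := by decide

/-- the data of the graph automorphism -/
theorem gdata (K : Type*) [Field K] [CharP K 3] : GData K chevG2 3 rho lam where
  hD := by simp
  hp := by norm_num
  hchar := inferInstance
  rho_lt := rho_lt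
  rho_neg := rho_neg
  lam_eq := lam_eq
  lam_neg := lam_neg
  rel := by
    intro r hr
    have hr' : r < 12 := hr
    interval_cases r
    · exact graph_row_of_check 3 DataG2.agrees rho lam rho_lt 0 (by decide) gr0
    · exact graph_row_of_check 3 DataG2.agrees rho lam rho_lt 1 (by decide) gr1
    · exact graph_row_of_check 3 DataG2.agrees rho lam rho_lt 2 (by decide) gr2
    · exact graph_row_of_check 3 DataG2.agrees rho lam rho_lt 3 (by decide) gr3
    · exact graph_row_of_check 3 DataG2.agrees rho lam rho_lt 4 (by decide) gr4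
    · exact graph_row_of_check 3 DataG2.agrees rho lam rho_lt 5 (by decide) gr5
    · exact graph_row_of_check 3 DataG2.agrees rho lam rho_lt 6 (by decide) gr6
    · exact graph_row_of_check 3 DataG2.agrees rho lam rho_lt 7 (by decide) gr7
    · exact graph_row_of_check 3 DataG2.agrees rho lam rho_lt 8 (by decide) gr8
    · exact graph_row_of_check 3 DataG2.agrees rho lam rho_lt 9 (by decide) gr9
    · exact graph_row_of_check 3 DataG2.agrees rho lam rho_lt 10 (by decide) gr10
    · exact graph_row_of_check 3 DataG2.agrees rho lam rho_lt 11 (by decide) gr11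

/-- the exceptional graph automorphism of `G₂` over a perfect field of characteristic 3 -/
theorem exists_aut (K : Type*) [Field K] [CharP K 3] (hperf : ∀ x : K, ∃ y : K, y ^ 3 = x) :
    ∃ α : ↥(chevG2.group K) ≃* ↥(chevG2.group K), ∀ (g : ↥(chevG2.group K)) (r : ℕ) (t : K),
      r < chevG2.nroots → ((g : GL chevG2.Idx K) : Matrix chevG2.Idx chevG2.Idx K) = chevG2.x K r t →
        ((α g : GL chevG2.Idx K) : Matrix chevG2.Idx chevG2.Idx K)
          = chevG2.x K (rho r) (t ^ lam r) := by
  have hZ : Subgroup.center (chevG2.SteinbergGroup K) = ⊥ :=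
    steinberg_center_eq_bot (K := K) (D := chevG2) (by simp)
  have h2 : chevG2 = chevG2 ∨ chevG2 = chevB2 → ∃ a : K, a ≠ 0 ∧ a ≠ 1 := by
    intro _
    refine ⟨-1, by simp, ?_⟩
    intro h
    have h3 : (2 : K) = 0 := by
      have : (1 : K) + 1 = 0 := by
        nth_rw 1 [← h]
        ring
      rw [← this]
      norm_num
    have h4 : (3 : K) = 0 := by
      have := CharP.cast_eq_zero K 3
      exact_mod_cast this
    have : (1 : K) = 0 := by
      have e : (1 : K) = 3 - 2 := by norm_num
      rw [e, h3, h4, sub_zero]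
    exact one_ne_zero this
  exact ⟨(gdata K).aut hZ hperf rho_surj h2,
    fun g r t hr hg => (gdata K).aut_x hZ hperf rho_surj h2 g r hr t hg⟩

end Cfsg.Agent.Lib.Helper5.GA.G2
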