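import Cfsg.Agent.Lib.Helper5.GA.Check
import Cfsg.Agent.Lib.Helper5.St.Main3
import Mathlib

/-!
# The homomorphism of a graph automorphism from the presented group (helper5)
-/

set_option autoImplicit false

namespace Cfsg.Agent.Lib.Helper5.GA

open Cfsg.Lie Cfsg.Agent.Lib.Helper5.Chev Cfsg.Agent.Lib.Helper5.Tw Cfsg.Agent.Lib.Helper5.St
open scoped Matrix

/-- the data of a graph automorphism `x_r(t) ↦ x_{ρ r}(t ^ lam r)` in characteristic `p` -/
structure GData (K : Type*) [Field K] (D : ChevalleyDatum) (p : ℕ) (ρ lam : ℕ → ℕ) : Prop where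
  hD : D ∈ [chevG2, chevB2, chevD4, chevF4, chevE6, chevE7, chevE8]
  hp : p.Prime
  hchar : CharP K p
  rho_lt : ∀ r < D.nroots, ρ r < D.nroots
  rho_neg : ∀ r < D.nroots, ρ (D.neg r) = D.neg (ρ r)
  lam_eq : ∀ r < D.nroots, lam r = 1 ∨ lam r = p
  lam_neg : ∀ r < D.nroots, lam (D.neg r) = lam r
  rel : ∀ r < D.nroots, ∀ s < D.nroots, s ≠ r → s ≠ D.neg r → ∀ t u : K,
    D.x K (ρ s) (u ^ lam s) * D.x K (ρ r) (t ^ lam r)
      = D.x K (ρ r) (t ^ lam r) * D.x K (ρ s) (u ^ lam s) *
        D.wordMat K (gword ρ lam (D.commWord K r s t u))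

namespace GData

variable {K : Type*} [Field K] {D : ChevalleyDatum} {p : ℕ} {ρ lam : ℕ → ℕ}
  (G : GData K D p ρ lam)

include G

theorem hadd : AllAdd K D := allAdd_all D G.hD

theorem pow_add (r : ℕ) (hr : r < D.nroots) (a b : K) :
    (a + b) ^ lam r = a ^ lam r + b ^ lam r := by
  rcases G.lam_eq r hr with h | h
  · rw [h, pow_one, pow_one, pow_one]
  · rw [h]
    have := G.hchar
    have : Fact p.Prime := ⟨G.hp⟩
    exact add_pow_char a b p

theorem pow_neg (r : ℕ) (hr : r < D.nroots) (a : K) : (-a) ^ lam r = -(a ^ lam r) := by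
  have := G.pow_add r hr a (-a)
  rw [add_neg_cancel] at this
  have h0 : (0 : K) ^ lam r = 0 := by
    rcases G.lam_eq r hr with h | h
    · rw [h, pow_one]
    · rw [h]
      exact zero_pow G.hp.ne_zero
  rw [h0] at this
  exact (neg_eq_of_add_eq_zero_right this.symm).symm

/-- the images of the generators -/
def genMap (_G : GData K D p ρ lam) (ha : AllAdd K D) : Fin D.nroots × K → GL D.Idx K :=
  fun q => ha.xU (ρ q.1) (q.2 ^ lam q.1)

theorem lift_stX (r : ℕ) (hr : r < D.nroots) (t : K) :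
    FreeGroup.lift (G.genMap G.hadd) (D.stX r t) = G.hadd.xU (ρ r) (t ^ lam r) := by
  unfold ChevalleyDatum.stX
  rw [dif_pos hr, FreeGroup.lift_apply_of]
  rfl

theorem lift_stWord (w : List (ℕ × K)) (hw : ∀ q ∈ w, q.1 < D.nroots) :
    FreeGroup.lift (G.genMap G.hadd) (D.stWord w) = G.hadd.wordU (gword ρ lam w) := by
  induction w with
  | nil =>
    unfold ChevalleyDatum.stWord
    rw [List.map_nil, List.prod_nil, map_one]
    rfl
  | cons q w ih =>
    have h1 := ih (fun q' hq' => hw q' (List.mem_cons_of_mem _ hq'))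
    unfold ChevalleyDatum.stWord at h1 ⊢
    rw [List.map_cons, List.prod_cons, map_mul, h1, G.lift_stX q.1 (hw q List.mem_cons_self)]
    unfold gword
    rw [List.map_cons, wordU_cons]

theorem lift_relsA : ∀ g ∈ relsA K D, FreeGroup.lift (G.genMap G.hadd) g = 1 := by
  rintro g ⟨r, t₁, t₂, hr, rfl⟩
  rw [map_mul, map_mul, map_inv, G.lift_stX r hr, G.lift_stX r hr, G.lift_stX r hr, mul_inv_eq_one]
  apply Units.ext
  rw [Units.val_mul, G.pow_add r hr]
  exact G.hadd.x_add (ρ r) _ _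

theorem lift_relsB : ∀ g ∈ relsB K D, FreeGroup.lift (G.genMap G.hadd) g = 1 := by
  rintro g ⟨r, s, t, u, hr, hs, h1, h2, rfl⟩
  have hlt : ∀ q ∈ D.commWord K r s t u, q.1 < D.nroots := by
    obtain ⟨T, hA, -⟩ := ufok_known D G.hD
    intro q hq
    unfold ChevalleyDatum.commWord at hq
    rw [List.mem_map] at hq
    obtain ⟨c, hc, rfl⟩ := hq
    rw [FD.commTerms_eq hA r s hr hs] at hc
    exact FD.commTerms_lt hA r s hr hs c hc
  simp only [map_mul, map_inv]
  rw [G.lift_stX r hr, G.lift_stX s hs, G.lift_stWord _ hlt]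
  have h := G.rel r hr s hs h1 h2 t u
  have h' : G.hadd.xU (ρ s) (u ^ lam s) * G.hadd.xU (ρ r) (t ^ lam r)
      = G.hadd.xU (ρ r) (t ^ lam r) * G.hadd.xU (ρ s) (u ^ lam s) *
        G.hadd.wordU (gword ρ lam (D.commWord K r s t u)) := by
    apply Units.ext
    rw [Units.val_mul, Units.val_mul, Units.val_mul, G.hadd.wordU_val]
    exact h
  rw [mul_inv_eq_one, mul_assoc, mul_assoc, inv_mul_eq_iff_eq_mul, inv_mul_eq_iff_eq_mul,
    ← mul_assoc]
  exact h'

theorem gword_hWord (r : ℕ) (hr : r < D.nroots) (t : K) :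
    gword ρ lam (D.hWord r t) = D.hWord (ρ r) (t ^ lam r) := by
  have hq : D.neg r < D.nroots := neg_lt_all D G.hD r hr
  unfold ChevalleyDatum.hWord ChevalleyDatum.nWord gword
  simp only [List.map_cons, List.map_nil, List.cons_append, List.nil_append]
  rw [G.rho_neg r hr, G.lam_neg r hr, G.pow_neg r hr, inv_pow, G.pow_neg r hr, one_pow, inv_neg,
    inv_one, neg_neg, one_pow]

theorem lift_stH (r : ℕ) (hr : r < D.nroots) (t : K) :
    ((FreeGroup.lift (G.genMap G.hadd) (D.stH r t) : GL D.Idx K) : Matrix D.Idx D.Idx K)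
      = D.hMat K (ρ r) (t ^ lam r) := by
  have hq : D.neg r < D.nroots := neg_lt_all D G.hD r hr
  unfold ChevalleyDatum.stH
  rw [G.lift_stWord, G.hadd.wordU_val, G.gword_hWord r hr t]
  · rfl
  · intro q hq'
    unfold ChevalleyDatum.hWord ChevalleyDatum.nWord at hq'
    simp only [List.cons_append, List.nil_append, List.mem_cons, List.not_mem_nil, or_false] at hq'
    rcases hq' with rfl | rfl | rfl | rfl | rfl | rfl <;> assumption

theorem lift_relsC : ∀ g ∈ relsC K D, FreeGroup.lift (G.genMap G.hadd) g = 1 := by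
  rintro g ⟨r, t₁, t₂, hr, h1, h2, rfl⟩
  rw [map_mul, map_mul, map_inv, mul_inv_eq_one]
  apply Units.ext
  rw [Units.val_mul, G.lift_stH r hr t₁, G.lift_stH r hr t₂, G.lift_stH r hr _,
    mul_pow]
  exact (hform_all' (F := K) D G.hD (ρ r) (G.rho_lt r hr)).mul _ _ (pow_ne_zero _ h1) (pow_ne_zero _ h2)

/-- the homomorphism from the presented group -/
noncomputable def hom : D.SteinbergGroup K →* GL D.Idx K :=
  PresentedGroup.toGroup (f := G.genMap G.hadd) (rels := D.steinbergRels K) (by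
    rw [steinbergRels_eq]
    rintro g ((hg | hg) | hg)
    · exact G.lift_relsA g hg
    · exact G.lift_relsB g hg
    · exact G.lift_relsC g hg)

theorem hom_stGen (r : ℕ) (hr : r < D.nroots) (t : K) :
    G.hom (D.stGen K r t) = G.hadd.xU (ρ r) (t ^ lam r) := by
  show PresentedGroup.toGroup _ (PresentedGroup.mk (D.steinbergRels K) (D.stX r t)) = _
  unfold ChevalleyDatum.stX
  rw [dif_pos hr]
  exact PresentedGroup.toGroup.of _

end GData

end Cfsg.Agent.Lib.Helper5.GA
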