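import Cfsg.Agent.Lib.Helper5.Chev.SPMNorm
import Mathlib

/-!
# Equality of words of sparse polynomial matrices modulo a prime (helper5)
-/

set_option autoImplicit false

namespace Cfsg.Agent.Lib.Helper5.GA

open Cfsg.Lie Cfsg.Agent.Lib.Helper5.Chev
open scoped Matrix

/-- boolean test that all coefficients cancel modulo `p` -/
def isZeroP (p : ℕ) (z : SVec) : Bool :=
  z.all fun e => decide (((z.filter fun f => e.sameKey f).map fun f => f.c).sum % (p : ℤ) = 0)

theorem eval_of_isZeroP {F : Type*} [Field F] (p : ℕ) [CharP F p] (t u v : F) (i : ℕ) :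
    ∀ (n : ℕ) (z : SVec), z.length ≤ n → isZeroP p z = true → SVec.eval z t u v i = 0 := by
  intro n
  induction n with
  | zero =>
    intro z hz _
    have : z = [] := List.eq_nil_of_length_eq_zero (Nat.le_zero.1 hz)
    subst this; rfl
  | succ n ih =>
    intro z hz h0
    rcases z with _ | ⟨e, z'⟩
    · rfl
    set z := e :: z' with hzdef
    have hsplit := sum_filter_split (fun f => e.sameKey f)
      (fun f : Ent => if f.row = i then f.val t u v else 0) z
    unfold SVec.eval
    rw [hsplit]
    have hall := List.all_eq_true.1 h0
    have h1 : ((z.filter fun f => e.sameKey f).map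
        (fun f : Ent => if f.row = i then f.val t u v else 0)).sum = 0 := by
      have he := hall e (by simp [hzdef])
      rw [decide_eq_true_eq] at he
      have : ∀ f ∈ z.filter (fun f => e.sameKey f),
          (if f.row = i then f.val t u v else 0)
            = (f.c : F) * (if e.row = i then t ^ e.a * u ^ e.b * v ^ e.d else 0) := by
        intro f hf
        have hk := (Ent.sameKey_iff e f).1 (List.mem_filter.1 hf).2
        obtain ⟨h1, h2, h3, h4⟩ := hk
        simp only [Ent.val, h1, h2, h3, h4]
        split_ifs <;> ring
      rw [List.map_congr_left this, List.sum_map_mul_right]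
      have hc : ((z.filter fun f => e.sameKey f).map fun f => ((f.c : ℤ) : F)).sum
          = (((z.filter fun f => e.sameKey f).map fun f => f.c).sum : ℤ) := by
        rw [Int.cast_list_sum, List.map_map]
        rfl
      rw [hc]
      have hdvd : ((p : ℤ)) ∣ ((z.filter fun f => e.sameKey f).map fun f => f.c).sum :=
        Int.dvd_of_emod_eq_zero he
      rw [(CharP.intCast_eq_zero_iff F p _).2 hdvd, zero_mul]
    rw [h1, zero_add]
    have hlen : (z.filter fun f => !e.sameKey f).length ≤ n := by
      have hself : e.sameKey e = true := (Ent.sameKey_iff e e).2 ⟨rfl, rfl, rfl, rfl⟩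
      have : z.filter (fun f => !e.sameKey f) = z'.filter (fun f => !e.sameKey f) := by
        simp [hzdef, hself]
      rw [this]
      have := List.length_filter_le (fun f => !e.sameKey f) z'
      simp only [hzdef, List.length_cons] at hz
      omega
    have hz0 : isZeroP p (z.filter fun f => !e.sameKey f) = true := by
      unfold isZeroP
      rw [List.all_eq_true]
      intro f hf
      have hfz := List.mem_filter.1 hf
      have hf0 := hall f hfz.1
      rw [decide_eq_true_eq] at hf0 ⊢
      rw [← hf0, List.filter_filter]
      congr 3
      apply List.filter_congr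
      intro g _
      by_cases hg : f.sameKey g = true
      · have hne : e.sameKey g = false := by
          by_contra hcon
          have hcon' : e.sameKey g = true := by simpa using hcon
          have h1 := (Ent.sameKey_iff f g).1 hg
          have h2 := (Ent.sameKey_iff e g).1 hcon'
          have : e.sameKey f = true := by
            rw [Ent.sameKey_iff]
            obtain ⟨a1, a2, a3, a4⟩ := h1
            obtain ⟨b1, b2, b3, b4⟩ := h2
            exact ⟨a1 ▸ b1, a2 ▸ b2, a3 ▸ b3, a4 ▸ b4⟩
          have := hfz.2
          simp_all
        simp [hg, hne]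
      · have hg' : f.sameKey g = false := by simpa using hg
        simp [hg']
    have := ih _ hlen hz0
    unfold SVec.eval at this
    exact this

/-- boolean test that two words of sparse matrices have the same matrix modulo `p`,
normalising all intermediate results -/
def wordEqbNP (p N : ℕ) (W₁ W₂ : List SPM) : Bool :=
  allBelow N fun j =>
    applyWordN W₁ (SVec.unit j) fun x => applyWordN W₂ (SVec.unit j) fun y =>
      isZeroP p (x ++ y.map Ent.neg)

theorem wordEqbNP_sound {F : Type*} [Field F] (p : ℕ) [CharP F p] (D : ChevalleyDatum)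
    (t u v : F) (W₁ W₂ : List SPM)
    (h₁ : ∀ C ∈ W₁, SPM.WF (D.rank + D.nroots) C) (h₂ : ∀ C ∈ W₂, SPM.WF (D.rank + D.nroots) C)
    (hc : wordEqbNP p (D.rank + D.nroots) W₁ W₂ = true) :
    (W₁.map fun C => SPM.eval D C t u v).prod = (W₂.map fun C => SPM.eval D C t u v).prod := by
  rw [← eval_wordSPM D W₁ h₁, ← eval_wordSPM D W₂ h₂]
  ext a b
  simp only [SPM.eval, Matrix.of_apply]
  have := allBelow_spec _ _ hc (code D b) (code_lt D b)
  rw [applyWordN_eq, applyWordN_eq] at this
  have e := eval_of_isZeroP p t u v (code D a) _ _ le_rfl this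
  rw [SVec.eval_append, SVec.eval_neg] at e
  have hu : ∀ e ∈ SVec.unit (code D b), e.row < D.rank + D.nroots := by
    intro e he
    simp only [SVec.unit, List.mem_singleton] at he
    subst he
    exact code_lt D b
  rw [eval_applyWordN' D W₁ h₁ _ hu, eval_applyWordN' D W₂ h₂ _ hu] at e
  exact sub_eq_zero.1 (by rw [sub_eq_add_neg]; exact e)

end Cfsg.Agent.Lib.Helper5.GA
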